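import Mathlib
import Cfsg.Prelude.Def_Characters
import Cfsg.Prelude.Def_Blocks
import Cfsg.Agent.Lib.Helper1.CharFound4
import Cfsg.Agent.Lib.Helper1.CharFound7
import Cfsg.Agent.Lib.Helper8.IM1
import Cfsg.Agent.Lib.Helper8.PC6
import Cfsg.Agent.Lib.Helper8.LinearCount
import Cfsg.Agent.Lib.Helper8.Deflation

/-!
# Counting irreducible characters of degree prime to a given prime: general lemmas
-/

set_option autoImplicit false

namespace Cfsg.Agent.Lib.Helper5.McK

open Cfsg Cfsg.Agent.Lib.Helper1 Cfsg.Agent.Lib.Helper8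

universe u

/-- number of irreducible characters of degree not divisible by `ℓ` -/
noncomputable def cnt (ℓ : ℕ) (G : Type u) [Group G] : ℕ :=
  Nat.card {χ : IrrCharacter G // ¬ ℓ ∣ charDegree (χ : G → ℂ)}

theorem charDegree_comp {A B : Type u} [Group A] [Group B] (e : A ≃* B) (χ : B → ℂ) :
    charDegree (fun a => χ (e a)) = charDegree χ := by
  unfold charDegree
  simp

theorem cnt_congr (ℓ : ℕ) {A B : Type u} [Group A] [Group B] (e : A ≃* B) :
    cnt ℓ A = cnt ℓ B := by
  unfold cnt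
  apply Nat.card_congr
  refine
    { toFun := fun χ => ⟨⟨fun b => (χ.1 : A → ℂ) (e.symm b),
        isIrrCharacter_comp_mulEquiv χ.1.2 e.symm⟩, ?_⟩
      invFun := fun χ => ⟨⟨fun a => (χ.1 : B → ℂ) (e a),
        isIrrCharacter_comp_mulEquiv χ.1.2 e⟩, ?_⟩
      left_inv := ?_
      right_inv := ?_ }
  · show ¬ ℓ ∣ charDegree (fun b => (χ.1 : A → ℂ) (e.symm b))
    rw [charDegree_comp]
    exact χ.2
  · show ¬ ℓ ∣ charDegree (fun a => (χ.1 : B → ℂ) (e a))
    rw [charDegree_comp]
    exact χ.2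
  · intro χ
    apply Subtype.ext
    apply Subtype.ext
    funext a
    simp
  · intro χ
    apply Subtype.ext
    apply Subtype.ext
    funext a
    simp

theorem cnt_top (ℓ : ℕ) (G : Type u) [Group G] : cnt ℓ (⊤ : Subgroup G) = cnt ℓ G :=
  cnt_congr ℓ Subgroup.topEquiv

theorem cnt_of_eq_top (ℓ : ℕ) {G : Type u} [Group G] (N : Subgroup G) (h : N = ⊤) :
    cnt ℓ N = cnt ℓ G := by
  subst h
  exact cnt_top ℓ G

theorem cnt_eq_card_of_forall (ℓ : ℕ) (G : Type u) [Group G] [Finite G]
    (h : ∀ χ : IrrCharacter G, ¬ ℓ ∣ charDegree (χ : G → ℂ)) :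
    cnt ℓ G = Nat.card (ConjClasses G) := by
  unfold cnt
  rw [← card_irr_eq_card_conjClasses]
  exact Nat.card_congr (Equiv.subtypeUnivEquiv h)

/-- Itô: with an abelian normal subgroup of index prime to `ℓ`, all degrees are prime to `ℓ`. -/
theorem cnt_of_abelian_normal (ℓ : ℕ) (hℓ : ℓ.Prime) (G : Type u) [Group G] [Finite G]
    (A : Subgroup G) [A.Normal] (hA : ∀ a ∈ A, ∀ b ∈ A, a * b = b * a) (hi : ¬ ℓ ∣ A.index) :
    cnt ℓ G = Nat.card (ConjClasses G) := by
  apply cnt_eq_card_of_forall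
  intro χ hd
  exact hi (hd.trans (charDegree_dvd_index_of_abelian A hA χ))

/-- normalisers of conjugate subgroups are isomorphic -/
theorem normalizer_equiv_of_conj {G : Type u} [Group G] (S T : Subgroup G) (g : G)
    (h : T = S.map (MulAut.conj g).toMonoidHom) :
    Nonempty (Subgroup.normalizer (S : Set G) ≃* Subgroup.normalizer (T : Set G)) := by
  subst h
  have h1 : Subgroup.normalizer ((S.map (MulAut.conj g).toMonoidHom : Subgroup G) : Set G) =
      (Subgroup.normalizer (S : Set G)).map (MulAut.conj g).toMonoidHom :=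
    (Subgroup.map_equiv_normalizer_eq S (MulAut.conj g)).symm
  rw [h1]
  exact ⟨(MulAut.conj g).subgroupMap (Subgroup.normalizer (S : Set G))⟩

theorem sylow_normalizer_equiv {G : Type u} [Group G] [Finite G] {p : ℕ} [Fact p.Prime]
    (P Q : Sylow p G) :
    Nonempty (Subgroup.normalizer ((P : Subgroup G) : Set G) ≃*
      Subgroup.normalizer ((Q : Subgroup G) : Set G)) := by
  obtain ⟨g, hg⟩ := MulAction.exists_smul_eq G P Q
  apply normalizer_equiv_of_conj (P : Subgroup G) (Q : Subgroup G) g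
  rw [← hg]
  rfl

theorem cnt_sylow_normalizer (ℓ : ℕ) {G : Type u} [Group G] [Finite G] {p : ℕ} [Fact p.Prime]
    (P Q : Sylow p G) :
    cnt ℓ (Subgroup.normalizer ((P : Subgroup G) : Set G)) =
      cnt ℓ (Subgroup.normalizer ((Q : Subgroup G) : Set G)) := by
  obtain ⟨e⟩ := sylow_normalizer_equiv P Q
  exact cnt_congr ℓ e

end Cfsg.Agent.Lib.Helper5.McK
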