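import Mathlib
import Cfsg.Agent.Lib.Helper5.McK.A1
import Cfsg.Agent.S2430

/-!
# McKay count for normalisers of Sylow `ℓ`-subgroups of `SL₂(q)`, `ℓ` odd, `ℓ ∣ q ± 1`
-/

set_option autoImplicit false

namespace Cfsg.Agent.Lib.Helper5.McK

open Cfsg Cfsg.Agent.Lib.Helper5 Matrix

section
variable {F : Type*} [Field F] [Fintype F] [DecidableEq F]

local notation "G" => SpecialLinearGroup (Fin 2) F

theorem normalizer_le_normalizer_centralizer {H : Type*} [Group H] (P : Subgroup H) :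
    Subgroup.normalizer (P : Set H) ≤
      Subgroup.normalizer ((Subgroup.centralizer (P : Set H) : Subgroup H) : Set H) := by
  intro g hg
  rw [Subgroup.mem_normalizer_iff] at hg ⊢
  have key : ∀ g : H, (∀ h, h ∈ P ↔ g * h * g⁻¹ ∈ P) → ∀ x, x ∈ Subgroup.centralizer (P : Set H) →
      g * x * g⁻¹ ∈ Subgroup.centralizer (P : Set H) := by
    intro g hg x hx
    rw [Subgroup.mem_centralizer_iff] at hx ⊢
    intro p hp
    have h1 : g⁻¹ * p * g ∈ P := by
      rw [hg]
      have : g * (g⁻¹ * p * g) * g⁻¹ = p := by group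
      rw [this]
      exact hp
    have h2 := hx _ h1
    calc p * (g * x * g⁻¹) = g * ((g⁻¹ * p * g) * x) * g⁻¹ := by group
      _ = g * (x * (g⁻¹ * p * g)) * g⁻¹ := by rw [h2]
      _ = g * x * g⁻¹ * p := by group
  intro x
  constructor
  · exact key g hg x
  · intro hx
    have hg' : ∀ h, h ∈ P ↔ g⁻¹ * h * g⁻¹⁻¹ ∈ P := by
      intro h
      rw [hg (g⁻¹ * h * g⁻¹⁻¹)]
      have : g * (g⁻¹ * h * g⁻¹⁻¹) * g⁻¹ = h := by group
      rw [this]
    have := key g⁻¹ hg' _ hx
    have h3 : g⁻¹ * (g * x * g⁻¹) * g⁻¹⁻¹ = x := by group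
    rwa [h3] at this

theorem cnt_normalizer_odd (h2 : (2 : F) ≠ 0) (ℓ : ℕ) [Fact ℓ.Prime] (hℓ : ℓ ≠ 2)
    (P : Sylow ℓ G) (n : ℕ)
    (hn : n = Fintype.card F - 1 ∨ n = Fintype.card F + 1) (hdvd : ℓ ∣ n) :
    2 * cnt ℓ (Subgroup.normalizer ((P : Subgroup G) : Set G)) = n + 6 := by
  have hℓp : ℓ.Prime := Fact.out
  obtain ⟨y, hyt, hcard, hPT, hyP⟩ := Cfsg.Agent.S2430.sylow_core h2 ℓ hℓ P n hn hdvd
  obtain ⟨hC, -, hN⟩ := Cfsg.Agent.S2430.main_core h2 ℓ hℓ P n hn hdvd
  have hns := not_scalar_of_sq_ne_four y hyt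
  set T := Subgroup.centralizer ({y} : Set G) with hT
  -- `T = C_G(P)`
  have hTle : T ≤ Subgroup.centralizer ((P : Subgroup G) : Set G) := by
    intro x hx
    rw [Subgroup.mem_centralizer_iff]
    intro p hp
    exact Cfsg.Agent.S2429.centralizer_comm y hns p x (hPT hp) hx
  have hTeq : T = Subgroup.centralizer ((P : Subgroup G) : Set G) := by
    apply Subgroup.eq_of_le_of_card_ge hTle
    rw [hC, hcard]
  -- `N_G(P) = N_G(T)`
  have hNle : Subgroup.normalizer ((P : Subgroup G) : Set G) ≤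
      Subgroup.normalizer ((T : Subgroup G) : Set G) := by
    rw [hTeq]
    exact normalizer_le_normalizer_centralizer _
  have hNT := card_normalizer_centralizer h2 y hyt
  have hNeq : Subgroup.normalizer ((P : Subgroup G) : Set G) =
      Subgroup.normalizer ((T : Subgroup G) : Set G) := by
    apply Subgroup.eq_of_le_of_card_ge hNle
    rw [hN, hNT, hcard]
  rw [hNeq]
  have hk := card_conjClasses_normalizer h2 y hyt
  rw [hcard] at hk
  rw [← hk]
  congr 1
  -- Itô
  set N := Subgroup.normalizer ((T : Subgroup G) : Set G) with hNdef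
  haveI : (T.subgroupOf N).Normal := Subgroup.normal_in_normalizer
  apply cnt_of_abelian_normal ℓ hℓp N (T.subgroupOf N)
  · intro a ha b hb
    apply Subtype.ext
    exact Cfsg.Agent.S2429.centralizer_comm y hns a b ha hb
  · have h1 : (T.subgroupOf N).index = 2 := relIndex_centralizer_normalizer h2 y hyt
    rw [h1]
    intro hd
    have := (Nat.prime_dvd_prime_iff_eq hℓp Nat.prime_two).1 hd
    exact hℓ this

end

end Cfsg.Agent.Lib.Helper5.McK
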