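import Mathlib
import Cfsg.Agent.Lib.Helper5.McK.A1
import Cfsg.Agent.Lib.Helper5.SL2Count
import Cfsg.Agent.S2437

/-!
# McKay count for the normaliser of a Sylow `p`-subgroup of `SL₂(q)`, `q` a power of `p`
-/

set_option autoImplicit false

namespace Cfsg.Agent.Lib.Helper5.McK

open Cfsg Cfsg.Agent.Lib.Helper5 Matrix

section
variable {F : Type*} [Field F]

local notation "G" => SpecialLinearGroup (Fin 2) F

/-- the upper unitriangular subgroup of `SL₂` -/
def unip : Subgroup G where
  carrier := {g | (g : Matrix (Fin 2) (Fin 2) F) 1 0 = 0 ∧ (g : Matrix (Fin 2) (Fin 2) F) 0 0 = 1 ∧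
    (g : Matrix (Fin 2) (Fin 2) F) 1 1 = 1}
  one_mem' := by simp
  mul_mem' := by
    rintro a b ⟨ha1, ha2, ha3⟩ ⟨hb1, hb2, hb3⟩
    refine ⟨?_, ?_, ?_⟩
    · simp [Matrix.SpecialLinearGroup.coe_mul, Matrix.mul_apply, Fin.sum_univ_two, ha1, ha3, hb1]
    · simp [Matrix.SpecialLinearGroup.coe_mul, Matrix.mul_apply, Fin.sum_univ_two, ha2, hb1, hb2]
    · simp [Matrix.SpecialLinearGroup.coe_mul, Matrix.mul_apply, Fin.sum_univ_two, ha1, ha3, hb3]
  inv_mem' := by
    rintro a ⟨ha1, ha2, ha3⟩
    refine ⟨?_, ?_, ?_⟩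
    · simp [Matrix.SpecialLinearGroup.coe_inv, Matrix.adjugate_fin_two, ha1]
    · simp [Matrix.SpecialLinearGroup.coe_inv, Matrix.adjugate_fin_two, ha3]
    · simp [Matrix.SpecialLinearGroup.coe_inv, Matrix.adjugate_fin_two, ha2]

theorem mem_unip (g : G) : g ∈ (unip : Subgroup G) ↔
    (g : Matrix (Fin 2) (Fin 2) F) 1 0 = 0 ∧ (g : Matrix (Fin 2) (Fin 2) F) 0 0 = 1 ∧
    (g : Matrix (Fin 2) (Fin 2) F) 1 1 = 1 := Iff.rfl

/-- the unitriangular element with entry `t` -/
def uni (t : F) : G := ⟨!![1, t; 0, 1], by simp [Matrix.det_fin_two_of]⟩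

theorem uni_mem (t : F) : uni t ∈ (unip : Subgroup G) := by
  rw [mem_unip]
  simp [uni]

theorem eq_uni_of_mem (g : G) (hg : g ∈ (unip : Subgroup G)) :
    g = uni ((g : Matrix (Fin 2) (Fin 2) F) 0 1) := by
  obtain ⟨h1, h2, h3⟩ := hg
  apply Subtype.ext
  show (g : Matrix (Fin 2) (Fin 2) F) = !![1, (g : Matrix (Fin 2) (Fin 2) F) 0 1; 0, 1]
  conv_lhs => rw [Matrix.eta_fin_two (g : Matrix (Fin 2) (Fin 2) F), h1, h2, h3]

/-- parametrisation of the unitriangular subgroup -/
def uniEquiv : F ≃ (unip : Subgroup G) where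
  toFun t := ⟨uni t, uni_mem t⟩
  invFun g := ((g : G) : Matrix (Fin 2) (Fin 2) F) 0 1
  left_inv t := by
    show (!![1, t; 0, 1] : Matrix (Fin 2) (Fin 2) F) 0 1 = t
    simp
  right_inv g := by
    apply Subtype.ext
    exact (eq_uni_of_mem g.1 g.2).symm

theorem uni_mul (s t : F) : (uni s : G) * uni t = uni (s + t) := by
  apply Subtype.ext
  show (!![1, s; 0, 1] : Matrix (Fin 2) (Fin 2) F) * !![1, t; 0, 1] = !![1, s + t; 0, 1]
  rw [Matrix.mul_fin_two]
  simp [add_comm]

theorem unip_comm (a b : G) (ha : a ∈ (unip : Subgroup G)) (hb : b ∈ (unip : Subgroup G)) :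
    a * b = b * a := by
  rw [eq_uni_of_mem a ha, eq_uni_of_mem b hb, uni_mul, uni_mul, add_comm]

theorem card_unip [Fintype F] : Nat.card (unip : Subgroup G) = Fintype.card F := by
  rw [← Nat.card_congr (uniEquiv (F := F)), Nat.card_eq_fintype_card]

/-- the normaliser of the unitriangular subgroup is the Borel subgroup -/
theorem normalizer_unip :
    Subgroup.normalizer ((unip : Subgroup G) : Set G) =
      (Cfsg.upperTriangularGL 2 F).comap SpecialLinearGroup.toGL := by
  ext g
  rw [mem_borelSL_two, slM_apply]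
  constructor
  · intro hg
    rw [Subgroup.mem_normalizer_iff] at hg
    have h1 := (hg (uni 1)).1 (uni_mem 1)
    have h2 : ((g * uni 1 * g⁻¹ : G) : Matrix (Fin 2) (Fin 2) F) 1 0 = 0 := h1.1
    have hdet := g.2
    rw [Matrix.det_fin_two] at hdet
    have hu : ((uni 1 : G) : Matrix (Fin 2) (Fin 2) F) = !![1, 1; 0, 1] := rfl
    rw [Matrix.SpecialLinearGroup.coe_mul, Matrix.SpecialLinearGroup.coe_mul,
      Matrix.SpecialLinearGroup.coe_inv, Matrix.adjugate_fin_two, hu] at h2
    simp only [Matrix.mul_apply, Fin.sum_univ_two] at h2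
    simp at h2
    have h3 : (g : Matrix (Fin 2) (Fin 2) F) 1 0 * (g : Matrix (Fin 2) (Fin 2) F) 1 0 = 0 := by
      linear_combination -h2
    exact mul_self_eq_zero.1 h3
  · intro hc
    have key : ∀ g : G, (g : Matrix (Fin 2) (Fin 2) F) 1 0 = 0 → ∀ u : G, u ∈ (unip : Subgroup G) →
        g * u * g⁻¹ ∈ (unip : Subgroup G) := by
      intro g hc u hu
      obtain ⟨h1, h2, h3⟩ := hu
      have hdet := g.2
      rw [Matrix.det_fin_two, hc, mul_zero, sub_zero] at hdet
      rw [mem_unip]
      simp only [Matrix.SpecialLinearGroup.coe_mul, Matrix.SpecialLinearGroup.coe_inv, Matrix.adjugate_fin_two,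
        Matrix.mul_apply, Fin.sum_univ_two]
      simp [hc, h1, h2, h3]
      refine ⟨by linear_combination hdet, by linear_combination hdet⟩
    rw [Subgroup.mem_normalizer_iff]
    intro u
    constructor
    · exact key g hc u
    · intro hu
      have hc' : ((g⁻¹ : G) : Matrix (Fin 2) (Fin 2) F) 1 0 = 0 := by
        simp [Matrix.SpecialLinearGroup.coe_inv, Matrix.adjugate_fin_two, hc]
      have := key g⁻¹ hc' _ hu
      have h3 : g⁻¹ * (g * u * g⁻¹) * g⁻¹⁻¹ = u := by group
      rwa [h3] at this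

end

section fin
variable {F : Type*} [Field F] [Fintype F] [DecidableEq F]

local notation "G" => SpecialLinearGroup (Fin 2) F

theorem cnt_normalizer_char (hodd : Odd (Fintype.card F)) (p f : ℕ) [Fact p.Prime]
    (hF : Fintype.card F = p ^ f)
    (S : Sylow p G) :
    cnt p (Subgroup.normalizer ((S : Subgroup G) : Set G)) = Fintype.card F + 3 := by
  have hp : p.Prime := Fact.out
  have hq2 : 2 ≤ Fintype.card F := Fintype.one_lt_card
  have hf : f ≠ 0 := by
    rintro rfl
    rw [pow_zero] at hF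
    omega
  have hpq : p ∣ Fintype.card F := by
    rw [hF]
    exact dvd_pow_self p hf
  have hnd1 : ¬ p ∣ Fintype.card F - 1 := by
    intro h
    have := (Nat.dvd_sub_iff_right (by omega) hpq).1 h
    exact hp.one_lt.ne' (Nat.dvd_one.1 this)
  have hnd2 : ¬ p ∣ Fintype.card F + 1 := by
    intro h
    have := (Nat.dvd_add_right hpq).1 h
    exact hp.one_lt.ne' (Nat.dvd_one.1 this)
  -- the unitriangular subgroup is a Sylow subgroup
  have hcardG := card_SL2 (F := F)
  have hU : Nat.card (unip : Subgroup G) = p ^ (Nat.card G).factorization p := by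
    rw [card_unip, hcardG, Nat.factorization_mul (Nat.mul_ne_zero (by omega) (by omega)) (by omega),
      Nat.factorization_mul (by omega) (by omega), Finsupp.add_apply, Finsupp.add_apply,
      Nat.factorization_eq_zero_of_not_dvd hnd1, Nat.factorization_eq_zero_of_not_dvd hnd2, hF,
      Nat.Prime.factorization_pow hp]
    simp
  set U : Sylow p G := Sylow.ofCard (unip : Subgroup G) hU with hUdef
  rw [cnt_sylow_normalizer p S U]
  have hUco : ((U : Subgroup G)) = unip := Sylow.coe_ofCard _ _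
  rw [hUco]
  rw [← Cfsg.Agent.S2437.result hodd]
  have hN := normalizer_unip (F := F)
  have hnorm : ((unip : Subgroup G).subgroupOf
      (Subgroup.normalizer ((unip : Subgroup G) : Set G))).Normal := Subgroup.normal_in_normalizer
  have hle : (unip : Subgroup G) ≤ Subgroup.normalizer ((unip : Subgroup G) : Set G) :=
    Subgroup.le_normalizer
  rw [hN] at hnorm hle ⊢
  apply cnt_of_abelian_normal p hp _ ((unip : Subgroup G).subgroupOf _)
  · intro a ha b hb
    apply Subtype.ext
    exact unip_comm (a : G) (b : G) (Subgroup.mem_subgroupOf.1 ha) (Subgroup.mem_subgroupOf.1 hb)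
  · -- index is `q - 1`
    have h1 := Subgroup.index_mul_card ((unip : Subgroup G).subgroupOf
      ((Cfsg.upperTriangularGL 2 F).comap SpecialLinearGroup.toGL))
    rw [Nat.card_congr (Subgroup.subgroupOfEquivOfLe hle).toEquiv, card_unip] at h1
    have h2 : Nat.card ((Cfsg.upperTriangularGL 2 F).comap
        (SpecialLinearGroup.toGL : G →* _)) = Fintype.card F * (Fintype.card F - 1) := by
      rw [← Nat.card_congr (Equiv.ofBijective _ (slE_bijective (F := F))),
        Nat.card_prod, Nat.card_units, Nat.card_eq_fintype_card, mul_comm]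
    rw [h2, mul_comm] at h1
    have h3 : ((unip : Subgroup G).subgroupOf
      ((Cfsg.upperTriangularGL 2 F).comap SpecialLinearGroup.toGL)).index = Fintype.card F - 1 :=
      Nat.eq_of_mul_eq_mul_left (by omega) h1
    rw [h3]
    exact hnd1

end fin

end Cfsg.Agent.Lib.Helper5.McK
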