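import Mathlib
import Cfsg.Agent.Lib.Helper5.McK.A1

/-!
# Abstract lemmas for the prime `2`: commutator subgroups of two small configurations
-/

set_option autoImplicit false

namespace Cfsg.Agent.Lib.Helper5.McK

open Cfsg Cfsg.Agent.Lib.Helper1 Cfsg.Agent.Lib.Helper8
open scoped commutatorElement

universe u

theorem commutator_le_of_quotient_comm {X : Type*} [Group X] (K : Subgroup X) [K.Normal]
    (h : ∀ a b : X ⧸ K, a * b = b * a) : commutator X ≤ K := by
  rw [commutator_eq_closure, Subgroup.closure_le]
  rintro x ⟨p, q, rfl⟩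
  rw [SetLike.mem_coe, ← QuotientGroup.eq_one_iff, commutatorElement_def]
  simp only [QuotientGroup.mk_mul, QuotientGroup.mk_inv]
  rw [h (p : X ⧸ K) (q : X ⧸ K)]
  group

/-- the squaring homomorphism of a commutative subgroup -/
def sqHom {X : Type*} [Group X] (C : Subgroup X) (hC : ∀ a ∈ C, ∀ b ∈ C, a * b = b * a) :
    C →* X where
  toFun x := (x : X) * (x : X)
  map_one' := by simp
  map_mul' a b := by
    show ((a : X) * (b : X)) * ((a : X) * (b : X)) = (a : X) * (a : X) * ((b : X) * (b : X))
    have := hC a a.2 b b.2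
    calc ((a : X) * (b : X)) * ((a : X) * (b : X)) = (a : X) * ((b : X) * (a : X)) * (b : X) := by
          group
      _ = (a : X) * ((a : X) * (b : X)) * (b : X) := by rw [this]
      _ = _ := by group

theorem sqHom_apply {X : Type*} [Group X] (C : Subgroup X)
    (hC : ∀ a ∈ C, ∀ b ∈ C, a * b = b * a) (x : C) : sqHom C hC x = (x : X) * (x : X) := rfl

/-- a group with a commutative subgroup of index `2` inverted by an element and having a unique
involution has commutator quotient of order `4` -/
theorem index_commutator_of_inverting {X : Type*} [Group X] [Finite X] (C : Subgroup X)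
    (hC : ∀ a ∈ C, ∀ b ∈ C, a * b = b * a) (hi : C.index = 2) (w : X)
    (hinv : ∀ x ∈ C, w * x * w⁻¹ = x⁻¹) (z : X) (hz : z ∈ C) (hz1 : z ≠ 1) (hzz : z * z = 1)
    (hinvol : ∀ x ∈ C, x * x = 1 → x = 1 ∨ x = z) : (commutator X).index = 4 := by
  classical
  haveI hCn : C.Normal := Subgroup.normal_of_index_eq_two hi
  set φ := sqHom C hC with hφ
  set K : Subgroup X := φ.range with hK
  -- `K` is normal
  haveI hKn : K.Normal := by
    constructor
    rintro y ⟨x, rfl⟩ g
    refine ⟨⟨g * x * g⁻¹, hCn.conj_mem x x.2 g⟩, ?_⟩
    rw [sqHom_apply, sqHom_apply]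
    group
  -- the kernel has order two
  have hker : Nat.card φ.ker = 2 := by
    rw [Nat.card_eq_two_iff]
    refine ⟨⟨1, one_mem _⟩, ⟨⟨z, hz⟩, ?_⟩, ?_, ?_⟩
    · rw [MonoidHom.mem_ker, sqHom_apply]
      exact hzz
    · intro h
      apply hz1
      have := congrArg (fun t : φ.ker => ((t : C) : X)) h
      exact this.symm
    · ext ⟨⟨x, hx⟩, hxk⟩
      simp only [Set.mem_insert_iff, Set.mem_singleton_iff, Set.mem_univ, iff_true]
      rw [MonoidHom.mem_ker, sqHom_apply] at hxk
      rcases hinvol x hx hxk with h | h
      · left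
        apply Subtype.ext
        apply Subtype.ext
        exact h
      · right
        apply Subtype.ext
        apply Subtype.ext
        exact h
  have hcard1 : Nat.card C = 2 * Nat.card K := by
    have h1 := Subgroup.card_eq_card_quotient_mul_card_subgroup φ.ker
    rw [Nat.card_congr (QuotientGroup.quotientKerEquivRange φ).toEquiv, hker] at h1
    rw [h1, mul_comm]
  have hcard2 : Nat.card X = 2 * Nat.card C := by
    rw [← Subgroup.card_mul_index C, hi, mul_comm]
  have hKi : K.index = 4 := by
    have h1 := Subgroup.card_mul_index K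
    rw [hcard2, hcard1] at h1
    have hpos : 0 < Nat.card K := Nat.card_pos
    have : Nat.card K * K.index = Nat.card K * 4 := by rw [h1]; ring
    exact Nat.eq_of_mul_eq_mul_left hpos this
  -- the quotient by `K` is commutative
  have hcomm : ∀ a b : X ⧸ K, a * b = b * a := by
    haveI : Fact (Nat.Prime 2) := ⟨Nat.prime_two⟩
    have h4 : Nat.card (X ⧸ K) = 2 ^ 2 := by rw [← Subgroup.index_eq_card, hKi]; norm_num
    have hcm := IsPGroup.commutative_of_card_eq_prime_sq (p := 2) h4
    intro a b
    exact hcm a b
  have hle : commutator X ≤ K := commutator_le_of_quotient_comm K hcomm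
  have hge : K ≤ commutator X := by
    rintro y ⟨x, rfl⟩
    rw [sqHom_apply]
    have h1 : ⁅w, (x : X)⁆ ∈ commutator X := by
      rw [commutator_def]
      exact Subgroup.commutator_mem_commutator (Subgroup.mem_top _) (Subgroup.mem_top _)
    rw [commutatorElement_def, hinv x x.2] at h1
    have h2 := inv_mem h1
    have h3 : ((x : X)⁻¹ * (x : X)⁻¹)⁻¹ = (x : X) * (x : X) := by
      rw [mul_inv_rev, inv_inv]
    rwa [h3] at h2
  rw [le_antisymm hle hge, hKi]

/-- a group of order `24` with a normal subgroup of order `8` having a unique, central involution and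
centraliser of exponent two equals its commutator subgroup's ... -/
theorem commutator_eq_of_card_24 {X : Type*} [Group X] [Finite X] (hX : Nat.card X = 24)
    (P : Subgroup X) [P.Normal] (hP : Nat.card P = 8) (z : X) (hzc : ∀ g : X, g * z = z * g)
    (hinvol : ∀ x ∈ P, x * x = 1 → x = 1 ∨ x = z)
    (hcent : ∀ h : X, (∀ s ∈ P, s * h = h * s) → h * h = 1) : commutator X = P := by
  classical
  have hPi : P.index = 3 := by
    have h1 := Subgroup.card_mul_index P
    rw [hX, hP] at h1
    omega
  -- the commutator subgroup lies in `P`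
  have hle : commutator X ≤ P := by
    apply commutator_le_of_quotient_comm
    haveI : Fact (Nat.Prime 3) := ⟨Nat.prime_three⟩
    have hc3 : Nat.card (X ⧸ P) = 3 := by rw [← Subgroup.index_eq_card, hPi]
    haveI : IsCyclic (X ⧸ P) := isCyclic_of_prime_card hc3
    intro a b
    exact (IsCyclic.commutative (α := X ⧸ P)).is_comm.comm a b
  by_contra hne
  set D := commutator X with hD
  -- the order of `D` is at most four
  have hD4 : Nat.card D ≤ 4 := by
    have h1 : Nat.card D ∣ 8 := hP ▸ Subgroup.card_dvd_of_le hle
    have h2 : Nat.card D ≠ 8 := by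
      intro h8
      apply hne
      apply Subgroup.eq_of_le_of_card_ge hle
      rw [hP, h8]
    have h3 : Nat.card D ≤ 8 := Nat.le_of_dvd (by norm_num) h1
    interval_cases h : Nat.card D <;> omega
  haveI hDn : D.Normal := by rw [hD]; infer_instance
  -- an element of order three
  haveI : Fact (Nat.Prime 3) := ⟨Nat.prime_three⟩
  obtain ⟨h, hh⟩ := exists_prime_orderOf_dvd_card' (G := X) 3 (by rw [hX]; norm_num)
  have hh3 : h ^ 3 = 1 := by rw [← hh]; exact pow_orderOf_eq_one h
  -- `h` centralises `D`
  have hcD : ∀ d ∈ D, h * d * h⁻¹ = d := by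
    intro d hd
    by_contra hne1
    have hd' : h * d * h⁻¹ ∈ D := hDn.conj_mem d hd h
    have hd'' : h * (h * d * h⁻¹) * h⁻¹ ∈ D := hDn.conj_mem _ hd' h
    have h3 : h * (h * (h * d * h⁻¹) * h⁻¹) * h⁻¹ = d := by
      calc h * (h * (h * d * h⁻¹) * h⁻¹) * h⁻¹ = h ^ 3 * d * (h ^ 3)⁻¹ := by
            rw [pow_succ, pow_two]; group
        _ = d := by rw [hh3]; group
    have hinj : ∀ a b : X, h * a * h⁻¹ = h * b * h⁻¹ → a = b := by
      intro a b hab
      calc a = h⁻¹ * (h * a * h⁻¹) * h := by group
        _ = h⁻¹ * (h * b * h⁻¹) * h := by rw [hab]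
        _ = b := by group
    have hn12 : h * d * h⁻¹ ≠ h * (h * d * h⁻¹) * h⁻¹ := fun e => hne1 (hinj _ _ e).symm
    have hn02 : d ≠ h * (h * d * h⁻¹) * h⁻¹ := by
      intro e
      apply hne1
      have e2 := congrArg (fun t => h * t * h⁻¹) e
      simp only [h3] at e2
      exact e2
    have hd1 : d ≠ 1 := by
      rintro rfl
      apply hne1
      group
    have hd1' : h * d * h⁻¹ ≠ 1 := by
      intro e
      apply hd1
      apply hinj
      rw [e]; group
    have hd1'' : h * (h * d * h⁻¹) * h⁻¹ ≠ 1 := by
      intro e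
      apply hd1'
      apply hinj
      rw [e]; group
    -- four distinct elements of `D`
    let e0 : D := ⟨1, one_mem _⟩
    let e1 : D := ⟨d, hd⟩
    let e2 : D := ⟨h * d * h⁻¹, hd'⟩
    let e3 : D := ⟨h * (h * d * h⁻¹) * h⁻¹, hd''⟩
    haveI : Fintype D := Fintype.ofFinite D
    have hcard : ({e0, e1, e2, e3} : Finset D).card = 4 := by
      rw [Finset.card_insert_of_notMem, Finset.card_insert_of_notMem, Finset.card_insert_of_notMem,
        Finset.card_singleton]
      · simp only [Finset.mem_singleton]
        intro e; exact hn12 (congrArg Subtype.val e)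
      · simp only [Finset.mem_insert, Finset.mem_singleton]
        rintro (e | e)
        · exact hne1 (congrArg Subtype.val e).symm
        · exact hn02 (congrArg Subtype.val e)
      · simp only [Finset.mem_insert, Finset.mem_singleton]
        rintro (e | e | e)
        · exact hd1 (congrArg Subtype.val e).symm
        · exact hd1' (congrArg Subtype.val e).symm
        · exact hd1'' (congrArg Subtype.val e).symm
    have hDc : Fintype.card D = 4 := by
      apply le_antisymm
      · rw [← Nat.card_eq_fintype_card]; exact hD4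
      · rw [← hcard]; exact Finset.card_le_univ _
    have huniv : ({e0, e1, e2, e3} : Finset D) = Finset.univ := by
      apply Finset.eq_univ_of_card
      rw [hcard, hDc]
    -- an involution of `D`
    haveI : Fact (Nat.Prime 2) := ⟨Nat.prime_two⟩
    obtain ⟨y, hy⟩ := exists_prime_orderOf_dvd_card' (G := D) 2 (by
      rw [Nat.card_eq_fintype_card, hDc]; norm_num)
    have hy1 : y ≠ 1 := by
      intro e
      rw [e, orderOf_one] at hy
      norm_num at hy
    have hyy : (y : X) * (y : X) = 1 := by
      have : y ^ 2 = 1 := by rw [← hy]; exact pow_orderOf_eq_one y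
      have := congrArg Subtype.val this
      rw [← pow_two]
      exact this
    have hyz : (y : X) = z := by
      rcases hinvol y (hle y.2) hyy with e | e
      · exfalso; apply hy1; apply Subtype.ext; exact e
      · exact e
    have hzfix : h * z * h⁻¹ = z := by rw [hzc h]; group
    have hmem : y ∈ ({e0, e1, e2, e3} : Finset D) := by rw [huniv]; exact Finset.mem_univ _
    simp only [Finset.mem_insert, Finset.mem_singleton] at hmem
    rcases hmem with e | e | e | e
    · exact hy1 e
    · have e' : z = d := by rw [← hyz, e]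
      apply hne1
      rw [← e', hzfix]
    · have e' : z = h * d * h⁻¹ := by rw [← hyz, e]
      apply hn12
      rw [← e', hzfix]
    · have e' : z = h * (h * d * h⁻¹) * h⁻¹ := by rw [← hyz, e]
      apply hn02
      rw [← e'] at h3
      rw [hzfix] at h3
      rw [← e', h3]
  -- `h` centralises `P`
  have hcP : ∀ s ∈ P, s * h = h * s := by
    intro s hs
    have h1 : ⁅s, h⁆ ∈ D := by
      rw [hD, commutator_def]
      exact Subgroup.commutator_mem_commutator (Subgroup.mem_top _) (Subgroup.mem_top _)
    set d := ⁅s, h⁆ with hd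
    have hdh : d * h = h * d := by
      have := hcD d h1
      calc d * h = (h * d * h⁻¹) * h := by rw [this]
        _ = h * d := by group
    have hsd : s * h * s⁻¹ = d * h := by rw [hd, commutatorElement_def]; group
    have h3 : (d * h) ^ 3 = 1 := by
      rw [← hsd, conj_pow, hh3]; group
    rw [(show Commute d h from hdh).mul_pow, hh3, mul_one] at h3
    have h8 : d ^ 8 = 1 := by
      have : (⟨d, hle h1⟩ : P) ^ 8 = 1 := by rw [← hP]; exact pow_card_eq_one'
      exact congrArg Subtype.val this
    have hd1 : d = 1 := by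
      calc d = (d ^ 3) ^ 3 * (d ^ 8)⁻¹ := by group
        _ = 1 := by rw [h3, h8]; group
    rw [hd1] at hsd
    calc s * h = (s * h * s⁻¹) * s := by group
      _ = h * s := by rw [hsd, one_mul]
  have h2 := hcent h hcP
  have : orderOf h ∣ 2 := by
    apply orderOf_dvd_of_pow_eq_one
    rw [pow_two]; exact h2
  rw [hh] at this
  norm_num at this

end Cfsg.Agent.Lib.Helper5.McK
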