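import Mathlib
import Cfsg.Agent.Lib.Helper5.McK.A4a

/-!
# Counting odd-degree characters in the two small configurations
-/

set_option autoImplicit false

namespace Cfsg.Agent.Lib.Helper5.McK

open Cfsg Cfsg.Agent.Lib.Helper1 Cfsg.Agent.Lib.Helper8

universe u

/-- number of linear characters, in terms of `charDegree` -/
theorem card_charDegree_one (G : Type u) [Group G] [Finite G] :
    Nat.card {χ : IrrCharacter G // charDegree (χ : G → ℂ) = 1} = (commutator G).index := by
  rw [← card_linear_irr]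
  apply Nat.card_congr
  apply Equiv.subtypeEquivRight
  intro χ
  have h := irr_apply_one_eq_charDegree χ.2
  constructor
  · intro h1
    rw [h.1, h1]
    simp
  · intro h1
    apply charDegree_of_apply_one
    rw [h1]
    simp

theorem cnt_eq_index_commutator (ℓ : ℕ) (hℓ : ℓ.Prime) (G : Type u) [Group G] [Finite G]
    (h : ∀ χ : IrrCharacter G, charDegree (χ : G → ℂ) ∣ ℓ) :
    cnt ℓ G = (commutator G).index := by
  rw [← card_charDegree_one]
  unfold cnt
  apply Nat.card_congr
  apply Equiv.subtypeEquivRight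
  intro χ
  rcases (Nat.dvd_prime hℓ).1 (h χ) with h2 | h2
  · rw [h2]
    simp [hℓ.one_lt.ne']
  · rw [h2]
    simp [hℓ.one_lt.ne']

/-- the first configuration has four characters of odd degree -/
theorem cnt_two_of_inverting {X : Type u} [Group X] [Finite X] (C : Subgroup X)
    (hC : ∀ a ∈ C, ∀ b ∈ C, a * b = b * a) (hi : C.index = 2) (w : X)
    (hinv : ∀ x ∈ C, w * x * w⁻¹ = x⁻¹) (z : X) (hz : z ∈ C) (hz1 : z ≠ 1) (hzz : z * z = 1)
    (hinvol : ∀ x ∈ C, x * x = 1 → x = 1 ∨ x = z) : cnt 2 X = 4 := by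
  haveI hCn : C.Normal := Subgroup.normal_of_index_eq_two hi
  rw [cnt_eq_index_commutator 2 Nat.prime_two X]
  · exact index_commutator_of_inverting C hC hi w hinv z hz hz1 hzz hinvol
  · intro χ
    rw [← hi]
    exact charDegree_dvd_index_of_abelian C hC χ

/-- a group of order `24` with three linear characters has four characters of odd degree -/
theorem cnt_two_of_card_24 (X : Type u) [Group X] [Finite X] (hX : Nat.card X = 24)
    (hc : (commutator X).index = 3) : cnt 2 X = 4 := by
  classical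
  haveI : Fintype X := Fintype.ofFinite X
  haveI : Fintype (IrrCharacter X) := Fintype.ofFinite _
  have hsum := sum_charDegree_sq X
  rw [hX] at hsum
  set d : IrrCharacter X → ℕ := fun ζ => charDegree (ζ : X → ℂ) with hd
  have hdvd : ∀ ζ : IrrCharacter X, d ζ ∣ 24 := fun ζ => hX ▸ charDegree_dvd_card ζ.2
  have hodd : ∀ ζ, ¬ 2 ∣ d ζ → d ζ = 1 ∨ d ζ = 3 := by
    intro ζ h2
    have h1 := hdvd ζ
    have hle : d ζ ≤ 24 := Nat.le_of_dvd (by norm_num) h1
    generalize d ζ = n at *
    interval_cases n <;> omega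
  -- the three counts
  set sOdd := Finset.univ.filter (fun ζ : IrrCharacter X => ¬ 2 ∣ d ζ) with hsOdd
  set sEven := Finset.univ.filter (fun ζ : IrrCharacter X => ¬ ¬ 2 ∣ d ζ) with hsEven
  have hcnt : cnt 2 X = sOdd.card := by
    unfold cnt
    rw [Nat.card_eq_fintype_card, Fintype.card_subtype]
  have hlin : (Finset.univ.filter (fun ζ : IrrCharacter X => d ζ = 1)).card = 3 := by
    rw [← hc, ← card_charDegree_one, Nat.card_eq_fintype_card, Fintype.card_subtype]
  have hsplit : ∑ ζ ∈ sOdd, d ζ ^ 2 + ∑ ζ ∈ sEven, d ζ ^ 2 = 24 := by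
    rw [hsOdd, hsEven, Finset.sum_filter_add_sum_filter_not]
    exact hsum
  -- the even part is divisible by four
  have heven : 4 ∣ ∑ ζ ∈ sEven, d ζ ^ 2 := by
    apply Finset.dvd_sum
    intro ζ hζ
    rw [hsEven, Finset.mem_filter] at hζ
    obtain ⟨k, hk⟩ := not_not.1 hζ.2
    rw [hk]
    exact ⟨k ^ 2, by ring⟩
  -- the odd part
  have hs1 : sOdd.filter (fun ζ => d ζ = 1) = Finset.univ.filter (fun ζ : IrrCharacter X => d ζ = 1) := by
    rw [hsOdd, Finset.filter_filter]
    apply Finset.filter_congr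
    intro ζ _
    constructor
    · exact fun h => h.2
    · intro h
      refine ⟨?_, h⟩
      rw [h]
      norm_num
  have hoddsum : ∑ ζ ∈ sOdd, d ζ ^ 2 = 3 + 9 * (sOdd.card - 3) := by
    rw [← Finset.sum_filter_add_sum_filter_not sOdd (fun ζ => d ζ = 1)]
    have e1 : ∑ ζ ∈ sOdd.filter (fun ζ => d ζ = 1), d ζ ^ 2 = 3 := by
      rw [Finset.sum_congr rfl (g := fun _ => 1), Finset.sum_const, hs1, hlin]
      · rfl
      · intro ζ hζ
        rw [(Finset.mem_filter.1 hζ).2]
        norm_num
    have e2 : ∑ ζ ∈ sOdd.filter (fun ζ => ¬ d ζ = 1), d ζ ^ 2 =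
        9 * (sOdd.filter (fun ζ => ¬ d ζ = 1)).card := by
      rw [Finset.sum_congr rfl (g := fun _ => 9), Finset.sum_const, smul_eq_mul, mul_comm]
      intro ζ hζ
      rw [Finset.mem_filter] at hζ
      have h1 : ¬ 2 ∣ d ζ := by
        have := hζ.1
        rw [hsOdd, Finset.mem_filter] at this
        exact this.2
      rcases hodd ζ h1 with h | h
      · exact absurd h hζ.2
      · rw [h]; norm_num
    have e3 := Finset.card_filter_add_card_filter_not (s := sOdd) (fun ζ => d ζ = 1)
    rw [hs1, hlin] at e3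
    rw [e1, e2]
    congr 2
    omega
  rw [hcnt]
  obtain ⟨m, hm⟩ := heven
  rw [hoddsum, hm] at hsplit
  have hge : 3 ≤ sOdd.card := by
    rw [← hlin, ← hs1]
    exact Finset.card_le_card (Finset.filter_subset _ _)
  omega

end Cfsg.Agent.Lib.Helper5.McK
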