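import Mathlib
import Cfsg.Agent.Lib.Helper5.McK.A4b
import Cfsg.Agent.S2431

/-!
# McKay count for the normaliser of a Sylow `2`-subgroup of `SL₂(q)`, `q` odd
-/

set_option autoImplicit false

namespace Cfsg.Agent.Lib.Helper5.McK

open Cfsg Cfsg.Agent.Lib.Helper5 Matrix Cfsg.Agent.S2431

section
variable {F : Type*} [Field F] [Fintype F] [DecidableEq F]

local notation "G" => SpecialLinearGroup (Fin 2) F

theorem mul_self_of_mem_center (c : G) (hc : c ∈ Subgroup.center G) : c * c = 1 := by
  obtain ⟨r, hr, hrc⟩ := Matrix.SpecialLinearGroup.mem_center_iff.1 hc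
  rw [Fintype.card_fin] at hr
  apply Subtype.ext
  rw [Matrix.SpecialLinearGroup.coe_mul, ← hrc, ← map_mul, ← pow_two, hr, map_one]
  rfl

theorem cnt_two_normalizer (hodd : Odd (Fintype.card F)) (S : Sylow 2 G) :
    cnt 2 (Subgroup.normalizer ((S : Subgroup G) : Set G)) = 4 := by
  classical
  have h2 : (2 : F) ≠ 0 := two_ne_zero_of_odd hodd
  have h3 := three_le_card_of_odd hodd
  obtain ⟨g₀, ht, hc, hn, hinv⟩ := Cfsg.Agent.S2431.exists_torus hodd S
  have hS : Nat.card (S : Subgroup G) = 2 ^ ((orderOf g₀).factorization 2 + 1) := by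
    rw [Sylow.card_eq_multiplicity, Cfsg.Agent.S2431.fact_two_card hodd (orderOf g₀) hn]
  obtain ⟨hRc, ⟨w, hwS, hwT⟩, hpowS⟩ := Cfsg.Agent.S2431.struct_facts h2 S g₀ ht hc hS hinv
  have H : Cfsg.Agent.S2431.Setup S g₀ w := ⟨h2, ht, hc, hRc, hwS, hwT, hinv, hpowS⟩
  have hmain := Cfsg.Agent.S2431.result hodd S
  have hqmod : Fintype.card F % 2 = 1 := Nat.odd_iff.1 hodd
  have hpos : orderOf g₀ ≠ 0 := (orderOf_pos g₀).ne'
  have h4 : 4 ∣ orderOf g₀ := by
    rcases hn with ⟨h, hn⟩ | ⟨h, hn⟩
    · rw [hn]; exact Nat.dvd_of_mod_eq_zero (by omega)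
    · rw [hn]; exact Nat.dvd_of_mod_eq_zero (by omega)
  have ha2 : 2 ≤ (orderOf g₀).factorization 2 := by
    have : 2 ^ 2 ∣ orderOf g₀ := h4
    exact (Nat.Prime.pow_dvd_iff_le_factorization Nat.prime_two hpos).1 this
  set T := Subgroup.centralizer ({g₀} : Set G) with hT
  -- the central involution lies in `S`
  have hzT : (negOneSL : G) ∈ T := by
    rw [hT, Subgroup.mem_centralizer_singleton_iff]
    exact (negOneSL_commute g₀).symm
  have hzS : (negOneSL : G) ∈ (S : Subgroup G) := by
    apply hpowS _ hzT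
    obtain ⟨k, hk⟩ : ∃ k, (orderOf g₀).factorization 2 = k + 1 := ⟨_, (Nat.sub_add_cancel (by omega)).symm⟩
    rw [hk, pow_succ, pow_mul', pow_two, negOneSL_mul_self, one_pow]
  have hq8 : Fintype.card F % 8 = 1 ∨ Fintype.card F % 8 = 7 ∨ Fintype.card F % 8 = 3 ∨
      Fintype.card F % 8 = 5 := by omega
  rcases hq8 with h8 | h8 | h8 | h8
  on_goal 3 => have h8' : Fintype.card F % 8 = 3 ∨ Fintype.card F % 8 = 5 := Or.inl h8
  on_goal 4 => have h8' : Fintype.card F % 8 = 3 ∨ Fintype.card F % 8 = 5 := Or.inr h8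
  on_goal 1 => have h8' : Fintype.card F % 8 = 1 ∨ Fintype.card F % 8 = 7 := Or.inl h8
  on_goal 2 => have h8' : Fintype.card F % 8 = 1 ∨ Fintype.card F % 8 = 7 := Or.inr h8
  iterate 2
    -- `N = S`
    rw [hmain.2.1 h8']
    apply cnt_two_of_inverting (T.subgroupOf (S : Subgroup G)) ?_ ?_ ⟨w, hwS⟩ ?_
      ⟨negOneSL, hzS⟩ ?_ ?_ ?_ ?_
    · intro a ha b hb
      apply Subtype.ext
      exact Cfsg.Agent.S2429.centralizer_comm g₀ H.hns a b ha hb
    · -- index two
      have h1 := Cfsg.Agent.S2431.card_eq_of_relIndex (T ⊓ (S : Subgroup G)) (S : Subgroup G) inf_le_right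
      rw [Subgroup.inf_relIndex_right, hRc, hS, pow_succ] at h1
      have hpos2 : 0 < 2 ^ (orderOf g₀).factorization 2 := by positivity
      exact Nat.eq_of_mul_eq_mul_left hpos2 h1
    · intro x hx
      apply Subtype.ext
      exact conj_eq_inv_of_inverting w g₀ H.hns H.hwinv x hx
    · exact hzT
    · intro h
      exact negOneSL_ne_one h2 (congrArg Subtype.val h)
    · apply Subtype.ext
      exact negOneSL_mul_self
    · intro x _ hxx
      have hxx' : (x : G) * (x : G) = 1 := congrArg Subtype.val hxx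
      rcases eq_one_or_negOne_of_mul_self h2 (x : G) hxx' with h | h
      · left; exact Subtype.ext h
      · right; exact Subtype.ext h
  iterate 2
    -- `|N| = 24`
    have ha : (orderOf g₀).factorization 2 = 2 := by
      apply Cfsg.Agent.S2431.fact_two_of_mod_eight
      rcases hn with ⟨h, hn⟩ | ⟨h, hn⟩
      · rw [hn]; omega
      · rw [hn]; omega
    rw [ha] at hS
    have hS8 : Nat.card (S : Subgroup G) = 8 := by rw [hS]; norm_num
    have hN24 := hmain.2.2 h8'
    set N := Subgroup.normalizer ((S : Subgroup G) : Set G) with hN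
    have hSN : (S : Subgroup G) ≤ N := Subgroup.le_normalizer
    haveI hPn : ((S : Subgroup G).subgroupOf N).Normal := Subgroup.normal_in_normalizer
    have hX : Nat.card N = 24 := by
      rw [hN24]
      show 3 * Nat.card (S : Subgroup G) = 24
      rw [hS8]
    have hP : Nat.card ((S : Subgroup G).subgroupOf N) = 8 := by
      rw [Nat.card_congr (Subgroup.subgroupOfEquivOfLe hSN).toEquiv, hS8]
    apply cnt_two_of_card_24 N hX
    have hcomm := commutator_eq_of_card_24 hX ((S : Subgroup G).subgroupOf N) hP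
      ⟨negOneSL, hSN hzS⟩ ?_ ?_ ?_
    · rw [hcomm]
      have h1 := Subgroup.card_mul_index ((S : Subgroup G).subgroupOf N)
      rw [hX, hP] at h1
      omega
    · intro g
      apply Subtype.ext
      exact negOneSL_commute (g : G)
    · intro x _ hxx
      have hxx' : (x : G) * (x : G) = 1 := congrArg Subtype.val hxx
      rcases eq_one_or_negOne_of_mul_self h2 (x : G) hxx' with h | h
      · left; exact Subtype.ext h
      · right; exact Subtype.ext h
    · intro h hh
      have hcen : (h : G) ∈ Subgroup.centralizer ((S : Subgroup G) : Set G) := by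
        rw [Subgroup.mem_centralizer_iff]
        intro s hs
        have := hh ⟨s, hSN hs⟩ (Subgroup.mem_subgroupOf.2 hs)
        exact congrArg Subtype.val this
      rw [hmain.1] at hcen
      apply Subtype.ext
      exact mul_self_of_mem_center (h : G) hcen

end

end Cfsg.Agent.Lib.Helper5.McK
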