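import Mathlib
import Cfsg.Agent.Lib.Helper5.McK.A4b
import Cfsg.Agent.S2299
import Cfsg.Agent.S2325

/-!
# The number of irreducible characters of `SL₂(q)` of degree prime to `ℓ`
-/

set_option autoImplicit false

namespace Cfsg.Agent.Lib.Helper5.McK

open Cfsg Cfsg.Agent.Lib.Helper1 Cfsg.Agent.Lib.Helper8

universe u

theorem card_charDegree_eq (G : Type u) [Group G] [Finite G] (k : ℕ) :
    Nat.card {χ : IrrCharacter G // charDegree (χ : G → ℂ) = k} =
      Nat.card {χ : IrrCharacter G // (χ : G → ℂ) 1 = (k : ℂ)} := by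
  apply Nat.card_congr
  apply Equiv.subtypeEquivRight
  intro χ
  have h := irr_apply_one_eq_charDegree χ.2
  constructor
  · intro h1
    rw [h.1, h1]
  · intro h1
    exact charDegree_of_apply_one h1

theorem cnt_fiberwise (ℓ : ℕ) (G : Type u) [Group G] [Finite G] (D : Finset ℕ)
    (hD : ∀ χ : IrrCharacter G, charDegree (χ : G → ℂ) ∈ D) :
    cnt ℓ G = ∑ k ∈ D, if ℓ ∣ k then 0 else
      Nat.card {χ : IrrCharacter G // charDegree (χ : G → ℂ) = k} := by
  classical
  haveI : Fintype (IrrCharacter G) := Fintype.ofFinite _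
  unfold cnt
  rw [Nat.card_eq_fintype_card, Fintype.card_subtype,
    Finset.card_eq_sum_card_fiberwise (f := fun χ : IrrCharacter G => charDegree (χ : G → ℂ))
      (t := D) (fun χ _ => hD χ)]
  apply Finset.sum_congr rfl
  intro k _
  split_ifs with hk
  · rw [Finset.card_eq_zero, Finset.filter_filter]
    apply Finset.filter_eq_empty_iff.2
    intro χ _ h
    apply h.1
    rw [h.2]
    exact hk
  · rw [Nat.card_eq_fintype_card, Fintype.card_subtype, Finset.filter_filter]
    congr 1
    apply Finset.filter_congr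
    intro χ _
    constructor
    · exact fun h => h.2
    · intro h
      refine ⟨?_, h⟩
      rw [h]
      exact hk

section
variable {F : Type*} [Field F] [Fintype F]

local notation "G" => Matrix.SpecialLinearGroup (Fin 2) F
local notation "q" => Fintype.card F

theorem charDegree_mem (hodd : Odd q) (χ : IrrCharacter G) :
    charDegree (χ : G → ℂ) ∈
      ({1, q, q + 1, q - 1, (q + 1) / 2, (q - 1) / 2} : Finset ℕ) := by
  have h1 := (Cfsg.Agent.S2299.result hodd).1 χ.1 χ.2
  have hq : 1 ≤ q := Fintype.card_pos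
  simp only [Finset.mem_insert, Finset.mem_singleton]
  rcases h1 with h | h | h | h | h | h
  · left
    apply charDegree_of_apply_one
    rw [h]; simp
  · right; left
    exact charDegree_of_apply_one h
  · right; right; left
    apply charDegree_of_apply_one
    rw [h]; push_cast; ring
  · right; right; right; left
    apply charDegree_of_apply_one
    rw [h, Nat.cast_sub hq]; simp
  · right; right; right; right; left
    exact charDegree_of_apply_one h
  · right; right; right; right; right
    exact charDegree_of_apply_one h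

theorem cnt_SL2 (hodd : Odd q) (h5 : 5 ≤ q) (ℓ : ℕ) :
    cnt ℓ G = (if ℓ ∣ 1 then 0 else 1) + ((if ℓ ∣ q then 0 else 1) +
      ((if ℓ ∣ q + 1 then 0 else (q - 3) / 2) + ((if ℓ ∣ q - 1 then 0 else (q - 1) / 2) +
      ((if ℓ ∣ (q + 1) / 2 then 0 else 2) + (if ℓ ∣ (q - 1) / 2 then 0 else 2))))) := by
  classical
  obtain ⟨m, hm⟩ := hodd
  have hq : 1 ≤ q := Fintype.card_pos
  obtain ⟨c1, c2, c3, c4, c5, c6⟩ := (Cfsg.Agent.S2299.result ⟨m, hm⟩).2 h5
  rw [cnt_fiberwise ℓ G _ (charDegree_mem ⟨m, hm⟩)]
  rw [Finset.sum_insert (by simp only [Finset.mem_insert, Finset.mem_singleton]; omega),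
    Finset.sum_insert (by simp only [Finset.mem_insert, Finset.mem_singleton]; omega),
    Finset.sum_insert (by simp only [Finset.mem_insert, Finset.mem_singleton]; omega),
    Finset.sum_insert (by simp only [Finset.mem_insert, Finset.mem_singleton]; omega),
    Finset.sum_insert (by simp only [Finset.mem_singleton]; omega), Finset.sum_singleton]
  rw [card_charDegree_eq G 1, card_charDegree_eq G q, card_charDegree_eq G (q + 1),
    card_charDegree_eq G (q - 1), card_charDegree_eq G ((q + 1) / 2),
    card_charDegree_eq G ((q - 1) / 2)]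
  have e1 : ((1 : ℕ) : ℂ) = 1 := by simp
  have e3 : ((q + 1 : ℕ) : ℂ) = (q : ℂ) + 1 := by push_cast; ring
  have e4 : ((q - 1 : ℕ) : ℂ) = (q : ℂ) - 1 := by rw [Nat.cast_sub hq]; simp
  rw [e1, e3, e4, c1, c2, c3, c4, c5, c6]

end

end Cfsg.Agent.Lib.Helper5.McK
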