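import Mathlib
import Cfsg.Agent.Lib.Helper5.McK.A2
import Cfsg.Agent.Lib.Helper5.McK.A3
import Cfsg.Agent.Lib.Helper5.McK.A4c
import Cfsg.Agent.Lib.Helper5.McK.A6

/-!
# The McKay equality for `SL₂(q)`, `q` odd
-/

set_option autoImplicit false

namespace Cfsg.Agent.Lib.Helper5.McK

open Cfsg Cfsg.Agent.Lib.Helper1 Cfsg.Agent.Lib.Helper8 Cfsg.Agent.Lib.Helper5

section
variable {F : Type*} [Field F] [Fintype F] [DecidableEq F]

local notation "G" => Matrix.SpecialLinearGroup (Fin 2) F
local notation "q" => Fintype.card F

/-- `SL₂(3)` has six irreducible characters of degree prime to `3` -/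
theorem cnt_three_of_card_three (hq : q = 3) : cnt 3 G = 6 := by
  classical
  have hodd : Odd q := by rw [hq]; decide
  haveI : Fintype (IrrCharacter G) := Fintype.ofFinite _
  have hsum := sum_charDegree_sq G
  rw [card_SL2, hq] at hsum
  have hk : Fintype.card (IrrCharacter G) = 7 := by
    rw [← Nat.card_eq_fintype_card, card_irr_eq_card_conjClasses, Cfsg.Agent.S2325.result hodd, hq]
  set d : IrrCharacter G → ℕ := fun ζ => charDegree (ζ : G → ℂ) with hd
  have hmem : ∀ ζ, d ζ = 1 ∨ d ζ = 2 ∨ d ζ = 3 ∨ d ζ = 4 := by
    intro ζ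
    have := charDegree_mem hodd ζ
    rw [hq] at this
    simp only [Finset.mem_insert, Finset.mem_singleton] at this
    have h1 : d ζ = charDegree (ζ : G → ℂ) := rfl
    omega
  set s3 := Finset.univ.filter (fun ζ : IrrCharacter G => 3 ∣ d ζ) with hs3
  set sN := Finset.univ.filter (fun ζ : IrrCharacter G => ¬ 3 ∣ d ζ) with hsN
  have hcnt : cnt 3 G = sN.card := by
    unfold cnt
    rw [Nat.card_eq_fintype_card, Fintype.card_subtype]
  have hcard : s3.card + sN.card = 7 := by
    rw [hs3, hsN, Finset.card_filter_add_card_filter_not, Finset.card_univ, hk]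
  have hsplit : ∑ ζ ∈ s3, d ζ ^ 2 + ∑ ζ ∈ sN, d ζ ^ 2 = 24 := by
    rw [hs3, hsN, Finset.sum_filter_add_sum_filter_not]
    exact hsum
  have e1 : ∑ ζ ∈ s3, d ζ ^ 2 = 9 * s3.card := by
    rw [Finset.sum_congr rfl (g := fun _ => 9), Finset.sum_const, smul_eq_mul, mul_comm]
    intro ζ hζ
    rw [hs3, Finset.mem_filter] at hζ
    have h3 : d ζ = 3 := by
      rcases hmem ζ with h | h | h | h
      · rw [h] at hζ; omega
      · rw [h] at hζ; omega
      · exact h
      · rw [h] at hζ; omega
    rw [h3]; norm_num
  have e2 : ∑ ζ ∈ sN, d ζ ^ 2 = sN.card + 3 * ∑ ζ ∈ sN, (d ζ ^ 2 - 1) / 3 := by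
    rw [Finset.mul_sum, Finset.card_eq_sum_ones, ← Finset.sum_add_distrib]
    apply Finset.sum_congr rfl
    intro ζ hζ
    rw [hsN, Finset.mem_filter] at hζ
    rcases hmem ζ with h | h | h | h
    · rw [h]; norm_num
    · rw [h]; norm_num
    · rw [h] at hζ; omega
    · rw [h]; norm_num
  rw [hcnt]
  rw [e1, e2] at hsplit
  omega

/-- the McKay equality for `SL₂(q)` in terms of `cnt` -/
theorem mckay_SL2 (hodd : Odd q) (ℓ : ℕ) [Fact ℓ.Prime] (S : Sylow ℓ G) :
    cnt ℓ G = cnt ℓ (Subgroup.normalizer ((S : Subgroup G) : Set G)) := by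
  classical
  have hℓ : ℓ.Prime := Fact.out
  have h2 : (2 : F) ≠ 0 := two_ne_zero_of_odd hodd
  have h3 := three_le_card_of_odd hodd
  have hq2 : q % 2 = 1 := Nat.odd_iff.1 hodd
  have h35 : q = 3 ∨ 5 ≤ q := by omega
  by_cases hdiv : ℓ ∣ Nat.card G
  · rw [card_SL2] at hdiv
    by_cases hℓ2 : ℓ = 2
    · subst hℓ2
      rcases h35 with h | h5
      · -- `q = 3`: the normaliser is everything
        symm
        apply cnt_of_eq_top
        apply Subgroup.eq_top_of_card_eq
        rw [(Cfsg.Agent.S2431.result hodd S).2.2 (Or.inl (by rw [h])), card_SL2, h]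
        have hf : (24 : ℕ).factorization 2 = 3 := by
          have h : (24 : ℕ) = 2 ^ 3 * 3 := by norm_num
          rw [h, Nat.factorization_mul (by norm_num) (by norm_num),
            Nat.Prime.factorization_pow Nat.prime_two]
          simp [Nat.factorization_eq_zero_of_not_dvd]
        have hS : Nat.card S = 8 := by
          rw [Sylow.card_eq_multiplicity, card_SL2, h]
          norm_num
          rw [hf]; norm_num
        rw [hS]
      · rw [cnt_two_normalizer hodd S, cnt_SL2 hodd h5]
        split_ifs <;> omega
    · rcases (Nat.Prime.dvd_mul hℓ).1 hdiv with hd | hd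
      · rcases (Nat.Prime.dvd_mul hℓ).1 hd with hd | hd
        · -- `ℓ` is the characteristic
          obtain ⟨n, hp, hcard⟩ := FiniteField.card F (ringChar F)
          have hℓp : ℓ = ringChar F := by
            rw [hcard] at hd
            exact (Nat.prime_dvd_prime_iff_eq hℓ hp).1 (hℓ.dvd_of_dvd_pow hd)
          have hF : q = ℓ ^ (n : ℕ) := by rw [hcard, hℓp]
          rw [cnt_normalizer_char hodd ℓ n hF S]
          rcases h35 with h | h5
          · have : ℓ = 3 := by
              rw [h] at hd
              exact (Nat.prime_dvd_prime_iff_eq hℓ Nat.prime_three).1 hd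
            subst this
            rw [cnt_three_of_card_three h, h]
          · rw [cnt_SL2 hodd h5]
            have hl2 := hℓ.two_le
            have n1 : ¬ ℓ ∣ 1 := by
              intro h; have := Nat.le_of_dvd (by norm_num) h; omega
            have n2 : ¬ ℓ ∣ q + 1 := by
              intro h; exact n1 ((Nat.dvd_add_right hd).1 h)
            have n3 : ¬ ℓ ∣ q - 1 := by
              intro h
              apply n1
              have := Nat.dvd_sub hd h
              rwa [show q - (q - 1) = 1 by omega] at this
            have n4 : ¬ ℓ ∣ (q + 1) / 2 := by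
              intro h
              apply n2
              exact h.trans (Nat.div_dvd_of_dvd (by omega))
            have n5 : ¬ ℓ ∣ (q - 1) / 2 := by
              intro h
              apply n3
              exact h.trans (Nat.div_dvd_of_dvd (by omega))
            rw [if_neg n1, if_pos hd, if_neg n2, if_neg n3, if_neg n4, if_neg n5]
            omega
        · -- `ℓ ∣ q - 1`
          have hl2 := hℓ.two_le
          have hl3 : 3 ≤ ℓ := by omega
          have h5 : 5 ≤ q := by
            have := Nat.le_of_dvd (by omega) hd
            omega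
          have hN := cnt_normalizer_odd h2 ℓ hℓ2 S (q - 1) (Or.inl rfl) hd
          rw [cnt_SL2 hodd h5]
          have n1 : ¬ ℓ ∣ 1 := by
            intro h; have := Nat.le_of_dvd (by norm_num) h; omega
          have n0 : ¬ ℓ ∣ q := by
            intro h
            apply n1
            have := Nat.dvd_sub h hd
            rwa [show q - (q - 1) = 1 by omega] at this
          have n2 : ¬ ℓ ∣ q + 1 := by
            intro h
            have := Nat.dvd_sub h hd
            rw [show q + 1 - (q - 1) = 2 by omega] at this
            have := Nat.le_of_dvd (by norm_num) this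
            omega
          have n4 : ¬ ℓ ∣ (q + 1) / 2 := by
            intro h
            apply n2
            exact h.trans (Nat.div_dvd_of_dvd (by omega))
          have p5 : ℓ ∣ (q - 1) / 2 := by
            have h1 : q - 1 = 2 * ((q - 1) / 2) := by omega
            rw [h1] at hd
            rcases (Nat.Prime.dvd_mul hℓ).1 hd with h | h
            · have := Nat.le_of_dvd (by norm_num) h
              omega
            · exact h
          rw [if_neg n1, if_neg n0, if_neg n2, if_pos hd, if_neg n4, if_pos p5]
          omega
      · -- `ℓ ∣ q + 1`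
        have hl2 := hℓ.two_le
        have hl3 : 3 ≤ ℓ := by omega
        have h5 : 5 ≤ q := by
          rcases h35 with h | h
          · rw [h] at hd
            have h4 : ℓ ∣ 2 ^ 2 := by norm_num; exact hd
            have := (Nat.prime_dvd_prime_iff_eq hℓ Nat.prime_two).1 (hℓ.dvd_of_dvd_pow h4)
            omega
          · exact h
        have hN := cnt_normalizer_odd h2 ℓ hℓ2 S (q + 1) (Or.inr rfl) hd
        rw [cnt_SL2 hodd h5]
        have n1 : ¬ ℓ ∣ 1 := by
          intro h; have := Nat.le_of_dvd (by norm_num) h; omega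
        have n0 : ¬ ℓ ∣ q := by
          intro h; exact n1 ((Nat.dvd_add_right h).1 hd)
        have n3 : ¬ ℓ ∣ q - 1 := by
          intro h
          have := Nat.dvd_sub hd h
          rw [show q + 1 - (q - 1) = 2 by omega] at this
          have := Nat.le_of_dvd (by norm_num) this
          omega
        have n5 : ¬ ℓ ∣ (q - 1) / 2 := by
          intro h
          apply n3
          exact h.trans (Nat.div_dvd_of_dvd (by omega))
        have p4 : ℓ ∣ (q + 1) / 2 := by
          have h1 : q + 1 = 2 * ((q + 1) / 2) := by omega
          rw [h1] at hd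
          rcases (Nat.Prime.dvd_mul hℓ).1 hd with h | h
          · have := Nat.le_of_dvd (by norm_num) h
            omega
          · exact h
        rw [if_neg n1, if_neg n0, if_pos hd, if_neg n3, if_pos p4, if_neg n5]
        omega
  · -- `ℓ` does not divide the order: the Sylow subgroup is trivial
    symm
    apply cnt_of_eq_top
    have hS : Nat.card S = 1 := by
      rw [Sylow.card_eq_multiplicity, Nat.factorization_eq_zero_of_not_dvd hdiv, pow_zero]
    have hbot : (S : Subgroup G) = ⊥ := Subgroup.eq_bot_of_card_eq _ hS
    rw [hbot]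
    exact Subgroup.normalizer_eq_top (H := (⊥ : Subgroup G))

end

end Cfsg.Agent.Lib.Helper5.McK
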